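import Mathlib
import Cfsg.Agent.H47.SpFieldExt
import Cfsg.Agent.H49.StabMax
import Cfsg.Agent.H44.Elu.SpCases

/-!
Elements of prime order of the symplectic group with a small moved space, and normalisers of field subalgebras.
-/

set_option autoImplicit false
set_option linter.unusedSectionVars false
set_option linter.style.haveILetI false

namespace H45

namespace SpExtFix

open Matrix
open H48 (sf)

variable {F : Type*} [Field F] {d : ℕ}

local notation "Mat" => Matrix (Fin d ⊕ Fin d) (Fin d ⊕ Fin d) F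
local notation "Sp" => Matrix.symplecticGroup (Fin d) F
local notation "G" => GL (Fin d ⊕ Fin d) F

theorem spHom_injective : Function.Injective (H49.spHom d F) := fun a b h => H48.sp_ext fun v => by
  rw [← H49.spHom_mulVec, ← H49.spHom_mulVec, h]

theorem spGL_eq_range : Cfsg.spGL d F = (H49.spHom d F).range :=
  le_antisymm (fun _ hg => H49.exists_spHom_eq hg) (by rintro _ ⟨s, rfl⟩; exact H49.spHom_mem_spGL s)

theorem card_spGL [Fintype F] : Nat.card (Cfsg.spGL d F) =
    Fintype.card F ^ (d ^ 2) * ∏ i ∈ Finset.range d, (Fintype.card F ^ (2 * (i + 1)) - 1) := by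
  rw [spGL_eq_range, Nat.card_congr (MonoidHom.ofInjective spHom_injective).toEquiv.symm, H48.card_sp,
    Fintype.card_fin]

/-- The moved space has the same dimension after conjugation. -/
theorem rank_sub_one_conj (x g : G) :
    (((g⁻¹ * x * g : G) : Mat) - 1).rank = ((x : Mat) - 1).rank := by
  refine H47.rank_conj g ?_
  rw [mul_sub, sub_mul, ← Units.val_mul, ← Units.val_mul, mul_one, one_mul]
  congr 2
  group

/-- An element with small moved space, or of odd order, is not a scalar. -/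
theorem nonscalar_of_rank {x : Sp} {r : ℕ} (hr : 1 < r) (hx : orderOf x = r) (hd : 0 < d)
    (h : ((x : Mat) - 1).rank < 2 * d ∨ Odd r) (z : F) : (H49.spHom d F x : Mat) ≠ z • (1 : Mat) := by
  intro hz
  have hzz : z * z = 1 := H44.Elu.scalar_sq (x := x) (r := 1) hd (by rw [pow_one]; exact hz)
  by_cases hz1 : z = 1
  · have : x = 1 := Subtype.ext (hz.trans (by rw [hz1, one_smul]; rfl))
    rw [this, orderOf_one] at hx
    omega
  rcases h with h | h
  · have hu : IsUnit ((z - 1) • (1 : Mat)) :=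
      ⟨⟨(z - 1) • 1, (z - 1)⁻¹ • 1, by rw [smul_mul_smul_comm, mul_inv_cancel₀ (sub_ne_zero.2 hz1), mul_one, one_smul],
        by rw [smul_mul_smul_comm, inv_mul_cancel₀ (sub_ne_zero.2 hz1), mul_one, one_smul]⟩, rfl⟩
    rw [show (x : Mat) = z • (1 : Mat) from hz, show z • (1 : Mat) - 1 = (z - 1) • 1 by rw [sub_smul, one_smul],
      Matrix.rank_of_isUnit _ hu, Fintype.card_sum, Fintype.card_fin] at h
    omega
  · have h2 : x ^ 2 = 1 := Subtype.ext (by
      rw [SubmonoidClass.coe_pow, show (x : Mat) = z • (1 : Mat) from hz, pow_two, smul_mul_smul_comm, hzz, mul_one, one_smul]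
      rfl)
    have h3 := orderOf_dvd_of_pow_eq_one h2
    rw [hx] at h3
    have := Nat.le_of_dvd two_pos h3
    obtain ⟨m, hm⟩ := h
    omega

/-- An element with small moved space that is not conjugate into a subgroup refutes the fixed point property. -/
theorem not_all_fix {H : Subgroup G} {r : ℕ} {x : Sp} (hr : 1 < r) (hd : 0 < d) (hx : orderOf x = r)
    (hrk : ((x : Mat) - 1).rank < 2 * d ∨ Odd r)
    (hno : ∀ y : Sp, orderOf y = r → ((y : Mat) - 1).rank = ((x : Mat) - 1).rank → H49.spHom d F y ∉ H) :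
    ¬ ∀ x ∈ Cfsg.spGL d F, (∃ z : F, ((x ^ r : G) : Mat) = z • (1 : Mat)) →
      (∀ z : F, (x : Mat) ≠ z • (1 : Mat)) → ∃ g ∈ Cfsg.spGL d F, g⁻¹ * x * g ∈ H := by
  intro hall
  have hpow : H49.spHom d F x ^ r = 1 := by rw [← map_pow, ← hx, pow_orderOf_eq_one, map_one]
  obtain ⟨g, hg, hgH⟩ := hall _ (H49.spHom_mem_spGL x) ⟨1, by rw [hpow, Units.val_one, one_smul]⟩
    (nonscalar_of_rank hr hx hd hrk)
  obtain ⟨g, rfl⟩ := H49.exists_spHom_eq hg
  rw [← map_inv, ← map_mul, ← map_mul] at hgH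
  refine hno (g⁻¹ * x * g) ?_ ?_ hgH
  · rw [show g⁻¹ * x * g = MulAut.conj g⁻¹ x by simp, MulEquiv.orderOf_eq, hx]
  · have h := rank_sub_one_conj (H49.spHom d F x) (H49.spHom d F g)
    rw [← map_inv, ← map_mul, ← map_mul] at h
    exact h

/-- An element of a symplectic group of smaller rank, extended by the identity. -/
theorem exists_block {η : ℕ} (hη : η ≤ d) (A : Matrix.symplecticGroup (Fin η) F) :
    ∃ x : Sp, orderOf x = orderOf A ∧ ((x : Mat) - 1).rank ≤ 2 * η := by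
  let e : Fin d ≃ Fin η ⊕ Fin (d - η) := (finCongr (show d = η + (d - η) by omega)).trans finSumFinEquiv.symm
  refine ⟨H49.spBlock e (A, 1), ?_, ?_⟩
  · exact orderOf_injective ((H49.spBlock e).comp (MonoidHom.inl _ (Matrix.symplecticGroup (Fin (d - η)) F)))
      ((H49.spBlock_injective e).comp fun a b h => congrArg Prod.fst h) A
  · let L : (Fin η ⊕ Fin η → F) →ₗ[F] (Fin d ⊕ Fin d → F) :=
      (H49.blockEquiv e).toLinearMap ∘ₗ LinearMap.inl F _ _
    refine le_trans (Submodule.finrank_mono (t := LinearMap.range L) ?_) ((LinearMap.finrank_range_le L).trans ?_)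
    · rintro _ ⟨v, rfl⟩
      obtain ⟨⟨a, b⟩, rfl⟩ := (H49.blockEquiv (F := F) e).surjective v
      refine ⟨A • a - a, ?_⟩
      rw [Matrix.mulVecLin_apply, Matrix.sub_mulVec, Matrix.one_mulVec, ← H48.spSmulDef, H49.spBlock_smul, ← map_sub]
      show H49.blockEquiv e (A • a - a, 0) = _
      congr 1
      rw [Prod.mk_sub_mk, one_smul, sub_self]
    · rw [Module.finrank_fintype_fun_eq_card, Fintype.card_sum, Fintype.card_fin]; omega

/-- A transvection. -/
theorem exists_transvection (hd : 0 < d) {p : ℕ} [hp : Fact p.Prime] [CharP F p] :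
    ∃ x : Sp, orderOf x = p ∧ ((x : Mat) - 1).rank ≤ 1 := by
  obtain ⟨v, hv⟩ : ∃ v : Fin d ⊕ Fin d → F, v ≠ 0 :=
    ⟨Pi.single (Sum.inl ⟨0, hd⟩) 1, fun h => by simpa using congrFun h (Sum.inl ⟨0, hd⟩)⟩
  have hpow : ∀ n : ℕ, H48.tv v (1 : F) ^ n = H48.tv v (n : F) := fun n => by
    induction n with
    | zero => simp
    | succ n ih => rw [pow_succ, ih, H48.tv_mul, Nat.cast_succ]
  refine ⟨H48.tv v 1, orderOf_eq_prime (by rw [hpow, CharP.cast_eq_zero, H48.tv_zero]) fun h => ?_, ?_⟩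
  · obtain ⟨w, hw⟩ := H48.exists_sf_ne hv
    have h2 := H48.tv_smul v (1 : F) w
    rw [h, one_smul, one_mul, eq_comm, add_eq_left, smul_eq_zero] at h2
    exact hw (H48.sf_eq_zero_comm (h2.resolve_right hv))
  · refine le_trans (Submodule.finrank_mono (t := F ∙ v) ?_) (finrank_span_singleton hv).le
    rintro _ ⟨w, rfl⟩
    refine Submodule.mem_span_singleton.2 ⟨1 * sf w v, ?_⟩
    rw [Matrix.mulVecLin_apply, Matrix.sub_mulVec, Matrix.one_mulVec, ← H48.spSmulDef, H48.tv_smul, add_sub_cancel_left]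

/-- An involution moving a plane. -/
theorem exists_reflection (hd : 0 < d) (h2 : (2 : F) ≠ 0) :
    ∃ x : Sp, orderOf x = 2 ∧ ((x : Mat) - 1).rank ≤ 2 := by
  obtain ⟨x, hx, hrk⟩ := exists_block (F := F) (η := 1) hd (H49.spNegOne (Fin 1) F)
  refine ⟨x, hx.trans (orderOf_eq_prime (by rw [pow_two, H49.spNegOne_mul_self]) fun h => h2 ?_), hrk⟩
  have h1 := congrFun (congrArg (fun g : Matrix.symplecticGroup (Fin 1) F => g • (Pi.single (Sum.inl 0) (1 : F) :
    Fin 1 ⊕ Fin 1 → F)) h) (Sum.inl 0)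
  simp only [H49.spNegOne_smul, one_smul, Pi.neg_apply, Pi.single_eq_same] at h1
  linear_combination -h1

/-- An element of order `r` moving one block. -/
theorem exists_one_block [Finite F] {r η : ℕ} (h : H49.EtaData (Nat.card F) r η) (hη : η ≤ d) :
    ∃ x : Sp, orderOf x = r ∧ ((x : Mat) - 1).rank ≤ 2 * η := by
  obtain ⟨A, hA⟩ := h.exists_elt
  obtain ⟨x, hx, hrk⟩ := exists_block hη A
  exact ⟨x, hx.trans hA, hrk⟩

/-- The block parameter is the order of `q ^ 2` modulo `r`. -/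
theorem etaData_sq {Q r : ℕ} [hr : Fact r.Prime] (hr2 : r ≠ 2) (hQ : (Q : ZMod r) ≠ 0) :
    H49.EtaData Q r (orderOf ((Q : ZMod r) ^ 2)) := by
  refine ⟨hr.out, hr2, hQ, ?_⟩
  have hpos : 0 < orderOf (Q : ZMod r) := orderOf_pos_iff.2 (isOfFinOrder_iff_pow_eq_one.2
    ⟨r - 1, Nat.sub_pos_of_lt hr.out.one_lt, ZMod.pow_card_sub_one_eq_one hQ⟩)
  rw [orderOf_pow' _ two_ne_zero]
  rcases Nat.even_or_odd (orderOf (Q : ZMod r)) with he | ho
  · refine Or.inr ⟨he, ?_⟩
    rw [Nat.gcd_eq_right he.two_dvd, Nat.mul_div_cancel' he.two_dvd]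
  · refine Or.inl ⟨ho, ?_⟩
    rw [Nat.Coprime.gcd_eq_one (Nat.coprime_two_right.2 ho), Nat.div_one]

theorem two_mul_eta_lt {Q r : ℕ} [hr : Fact r.Prime] (hr2 : r ≠ 2) (hQ : (Q : ZMod r) ≠ 0) :
    2 * orderOf ((Q : ZMod r) ^ 2) < r := by
  obtain ⟨m, hm⟩ := hr.out.odd_of_ne_two hr2
  have h : ((Q : ZMod r) ^ 2) ^ m = 1 := by
    rw [← pow_mul, show 2 * m = r - 1 by omega, ZMod.pow_card_sub_one_eq_one hQ]
  have := Nat.le_of_dvd (by have := hr.out.two_le; omega) (orderOf_dvd_of_pow_eq_one h)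
  omega

/-- A normalising element commutes with the field or moves half of the space. -/
theorem commute_or_half_le {K : Subalgebra F Mat} {k : ℕ} (hK : Cfsg.Geo.IsFieldSubalgebra k K) {y : G}
    (hy : y ∈ Cfsg.Geo.subalgebraNormalizer K) :
    (∀ c ∈ K, (y : Mat) * c = c * (y : Mat)) ∨ d ≤ ((y : Mat) - 1).rank := by
  by_contra hcon
  simp only [not_or, not_le, not_forall] at hcon
  obtain ⟨⟨c, hc, hne⟩, hlt⟩ := hcon
  set c' : Mat := (y : Mat) * c * ((y⁻¹ : G) : Mat) with hc'def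
  have hyc : (y : Mat) * c = c' * (y : Mat) := by rw [hc'def, mul_assoc, Units.inv_mul, mul_one]
  have hne' : c' - c ≠ 0 := fun h => hne (by rw [hyc, sub_eq_zero.1 h])
  obtain ⟨z, hzK, hz⟩ := hK.inv _ (sub_mem ((hy c).1 hc) hc) hne'
  have hzl : z * (c' - c) = 1 := mul_eq_one_comm.1 hz
  set P := LinearMap.ker ((y : Mat) - 1).mulVecLin with hP
  have hfix : ∀ v, v ∈ P ↔ (y : Mat) *ᵥ v = v := fun v => by
    rw [hP, LinearMap.mem_ker, Matrix.mulVecLin_apply, Matrix.sub_mulVec, Matrix.one_mulVec, sub_eq_zero]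
  have hkill : ∀ v ∈ P, c *ᵥ v ∈ P → v = 0 := fun v hv hcv => by
    rw [hfix] at hv hcv
    rw [Matrix.mulVec_mulVec, hyc, ← Matrix.mulVec_mulVec, hv] at hcv
    have h : (c' - c) *ᵥ v = 0 := by rw [Matrix.sub_mulVec, hcv, sub_self]
    have := congrArg (fun w => z *ᵥ w) h
    simpa [Matrix.mulVec_mulVec, hzl] using this
  let f : P →ₗ[F] (Fin d ⊕ Fin d → F) ⧸ P := P.mkQ ∘ₗ c.mulVecLin ∘ₗ P.subtype
  have hf : Function.Injective f := by
    rw [← LinearMap.ker_eq_bot, LinearMap.ker_eq_bot']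
    intro v hv
    exact Subtype.ext (hkill v v.2 ((Submodule.Quotient.mk_eq_zero P).1 hv))
  have h1 := LinearMap.finrank_le_finrank_of_injective hf
  have h2 := P.finrank_quotient_add_finrank
  have h3 := LinearMap.finrank_range_add_finrank_ker ((y : Mat) - 1).mulVecLin
  rw [Module.finrank_fintype_fun_eq_card, Fintype.card_sum, Fintype.card_fin] at h2 h3
  rw [← hP] at h3
  change Module.finrank F (LinearMap.range ((y : Mat) - 1).mulVecLin) < d at hlt
  omega

/-- The prime divisors of an index avoiding a large subgroup. -/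
theorem not_dvd_relIndex {Γ : Type*} [Group Γ] [Finite Γ] {N S : Subgroup Γ} {M U r : ℕ} (hM : 0 < M)
    (hcard : Nat.card S = U * M) (hdvd : M ∣ Nat.card ↥(N ⊓ S)) (hU : ¬ r ∣ U) : ¬ r ∣ N.relIndex S := by
  intro h
  have hidx : N.relIndex S * Nat.card ↥(N ⊓ S) = Nat.card S := by
    rw [Subgroup.relIndex, ← Subgroup.index_mul_card (N.subgroupOf S)]
    congr 1
    rw [← Subgroup.inf_subgroupOf_right]
    exact Nat.card_congr (Subgroup.subgroupOfEquivOfLe inf_le_right).toEquiv.symm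
  rw [hcard] at hidx
  have h1 : N.relIndex S * M ∣ U * M := (Nat.mul_dvd_mul_left _ hdvd).trans (dvd_of_eq hidx)
  exact hU (h.trans (Nat.dvd_of_mul_dvd_mul_right hM h1))

end SpExtFix

end H45
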